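import Cfsg.Agent.Lib.Y555Spider.Collapse
import Cfsg.Agent.Lib.FischerPresented.SubL

/-!
The spider relation with two arms exchanged, and the word of the central involution in the order of the
definition.
-/

set_option autoImplicit false
set_option maxRecDepth 100000

namespace Cfsg.Agent.Y555Spider

open Cfsg.Agent.CosetCert
open Cfsg.Agent.CosetData
open Cfsg.Agent.FischerPresented

noncomputable section

variable {G : Type} [Group G] {g : ℕ → G}

/-- The spider relation with the first two arms exchanged. -/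
theorem spider_swap (hg : Sp g) : wprod g (rep 10 [3, 4, 5, 3, 2, 1, 3, 7, 8]) = 1 := by
  have h := SubL.word_one (w := rep 10 [2, 3, 4, 2, 1, 0, 2, 6, 7]) (by decide +kernel)
  obtain ⟨ψ, hψ⟩ := SubL.setup.exists_hom (pick g [1, 2, 3, 4, 5, 6, 7, 8]) (fun x => hg.sq _)
    (rels_of_relsIn hg.sq (hg.big_one) (by decide +kernel))
  have e := congrArg ψ h
  rw [map_one, map_wprod, wprod_congr fun x hx => hψ x ((show ∀ x ∈ rep 10 [2, 3, 4, 2, 1, 0, 2, 6, 7],
    x < 8 by decide +kernel) x hx), wprod_pick] at e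
  exact e

/-- The word of the central involution in another order. -/
theorem centre_order (hg : Sp g) : wprod g Fi23.zW = wprod g (rep 9 [3, 4, 2, 7, 5, 1, 6]) := by
  have h := FischerUnique.SubE7.word_one
    (w := rep 9 [5, 4, 3, 2, 1, 0, 6] ++ (rep 9 [3, 2, 4, 6, 1, 5, 0]).reverse) (by decide +kernel)
  obtain ⟨ψ, hψ⟩ := FischerUnique.SubE7.setup.exists_hom (pick g [6, 5, 4, 3, 2, 1, 7]) (fun x => hg.sq _)
    (rels_of_relsIn hg.sq (hg.big_one) (by decide +kernel))
  have e := congrArg ψ h
  rw [map_one, map_wprod, wprod_congr fun x hx => hψ x ((show ∀ x ∈ rep 9 [5, 4, 3, 2, 1, 0, 6] ++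
    (rep 9 [3, 2, 4, 6, 1, 5, 0]).reverse, x < 7 by decide +kernel) x hx),
    wprod_pick, List.map_append, List.map_reverse, wprod_append, wprod_reverse hg.sq, mul_inv_eq_one] at e
  exact e

/-- The last node is the ninth power of the Coxeter element as printed in the definition. -/
theorem end_node (hg : Sp g) (s : G →* ℤˣ) (hs : ∀ x < 11, s (g x) = -1) :
    g 10 = (g 3 * g 4 * g 2 * g 7 * g 5 * g 1 * g 6) ^ 9 := by
  rw [collapse hg s hs, centre_order hg, wprod_rep]
  simp only [wprod_cons, wprod_nil, mul_one, mul_assoc]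

end

end Cfsg.Agent.Y555Spider
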