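import Cfsg.Agent.Lib.Y555Spider.Plane
import Cfsg.Agent.Lib.Compute.CosetBound
import Cfsg.Agent.Lib.Compute.CosetData.ChainC332
import Cfsg.Agent.Lib.FischerUnique.SubE7
import Mathlib.Data.Int.Order.Units

/-!
Eleven involutions on the Y532 diagram with the spider relation and a sign: the last node is the central
involution of a subgroup of type E7.
-/

set_option autoImplicit false
set_option maxRecDepth 100000

namespace Cfsg.Agent.Y555Spider

open Cfsg.Agent.CosetCert
open Cfsg.Agent.CosetData
open Cfsg.Agent.FischerPresented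

noncomputable section

/-- The diagram: the diagram of Fi23 with one node more at the end of the long arm. -/
def edgesS : List (ℕ × ℕ) :=
  [(0, 1), (1, 2), (2, 3), (3, 4), (3, 7), (4, 5), (5, 6), (7, 8), (6, 9), (9, 10)]

/-- The word of the Coxeter relator of two nodes. -/
def pairS (x y : ℕ) : List ℕ := if (x, y) ∈ edgesS ∨ (y, x) ∈ edgesS then rep 3 [x, y] else rep 2 [x, y]

/-- The spider word. -/
def spW : List ℕ := rep 10 [3, 2, 1, 3, 4, 5, 3, 7, 8]

/-- The word of the central involution of the subgroup on a, b, c, d, e, f, h. -/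
def e7W : List ℕ := rep 9 [0, 1, 2, 3, 4, 5, 7]

/-- Eleven involutions with the Coxeter relations and the spider relation. -/
structure Sp {G : Type*} [Group G] (g : ℕ → G) : Prop where
  sq : ∀ x, g x * g x = 1
  pair : ∀ x < 11, ∀ y < 11, x ≠ y → wprod g (pairS x y) = 1
  spider : wprod g spW = 1

/-- All relators. -/
def bigS : List (List ℕ) :=
  spW :: ((List.range 11).flatMap fun x => ((List.range 11).filter fun y => x != y).map fun y => pairS x y)

variable {G : Type} [Group G] {g : ℕ → G}

theorem Sp.big_one (hg : Sp g) : ∀ w ∈ bigS, wprod g w = 1 := by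
  intro w hw
  simp only [bigS, List.mem_cons, List.mem_flatMap, List.mem_map, List.mem_filter, List.mem_range, bne_iff_ne] at hw
  rcases hw with rfl | ⟨x, hx, y, ⟨hy, hne⟩, rfl⟩
  · exact hg.spider
  · exact hg.pair x hx y hy hne

theorem Sp.comm (hg : Sp g) {x y : ℕ} (hx : x < 11) (hy : y < 11) (h1 : (x, y) ∉ edgesS)
    (h2 : (y, x) ∉ edgesS) : Commute (g x) (g y) := by
  by_cases hxy : x = y
  · rw [hxy]
  have h := hg.pair x hx y hy hxy
  rw [pairS, if_neg (by simp [h1, h2]), wprod_rep, wprod_cons, wprod_cons, wprod_nil, mul_one, pow_two] at h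
  have := inv_eq_of_mul_eq_one_right h
  rw [mul_inv_rev, inv_eq_of_mul_eq_one_right (hg.sq x), inv_eq_of_mul_eq_one_right (hg.sq y)] at this
  exact this.symm

theorem Sp.braid (hg : Sp g) {x y : ℕ} (hx : x < 11) (hy : y < 11) (hne : x ≠ y)
    (h1 : (x, y) ∈ edgesS ∨ (y, x) ∈ edgesS) : g x * g y * g x = g y * g x * g y := by
  have h := hg.pair x hx y hy hne
  rw [pairS, if_pos h1, wprod_rep, wprod_cons, wprod_cons, wprod_nil, mul_one, pow_succ, pow_two] at h
  have hb : g x * g y * g x * (g y * g x * g y) = 1 := by rw [← h]; simp only [mul_assoc]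
  have := inv_eq_of_mul_eq_one_left hb
  rw [mul_inv_rev, mul_inv_rev, inv_eq_of_mul_eq_one_right (hg.sq x), inv_eq_of_mul_eq_one_right (hg.sq y)] at this
  rw [← this]
  simp only [mul_assoc]

theorem e7_sq (hg : Sp g) : wprod g e7W * wprod g e7W = 1 := by
  have h := FischerUnique.SubE7.word_one
    (w := rep 9 [0, 1, 2, 3, 4, 5, 6] ++ rep 9 [0, 1, 2, 3, 4, 5, 6]) (by decide +kernel)
  obtain ⟨ψ, hψ⟩ := FischerUnique.SubE7.setup.exists_hom (pick g [0, 1, 2, 3, 4, 5, 7]) (fun x => hg.sq _)
    (rels_of_relsIn (base := ChainE7.base) (emb := [0, 1, 2, 3, 4, 5, 7]) hg.sq (hg.big_one) (by decide +kernel))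
  have e := congrArg ψ h
  rw [map_one, map_wprod, wprod_congr fun x hx => hψ x ((show ∀ x ∈ rep 9 [0, 1, 2, 3, 4, 5, 6] ++
    rep 9 [0, 1, 2, 3, 4, 5, 6], x < 7 by decide +kernel) x hx), wprod_pick, List.map_append, wprod_append] at e
  exact e

/-- Conjugation by a generator. -/
def cj (g : ℕ → G) (x : ℕ) (q : G) : G := g x * q * g x

/-- The root word commuting with the first generator. -/
def rootW : List ℕ := [1, 2, 3, 7, 4, 3, 2, 1, 0, 1, 2, 3, 4, 7, 3, 2, 1]

/-- Paths from the first generator to the others. -/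
def pathsS : List (List ℕ) :=
  [[], [1, 0], [1, 0, 2, 1], [1, 0, 2, 1, 3, 2], [1, 0, 2, 1, 3, 2, 4, 3], [1, 0, 2, 1, 3, 2, 4, 3, 5, 4],
    [1, 0, 2, 1, 3, 2, 4, 3, 5, 4, 6, 5], [1, 0, 2, 1, 3, 2, 7, 3], [1, 0, 2, 1, 3, 2, 7, 3, 8, 7]]

theorem fixS_ok : (List.range 9).all (fun x =>
    ((pathsS.getD x []).all fun y => Nat.blt y 9) &&
      Nat.beq (tact ChainC332.P e7W (tact ChainC332.P (pathsS.getD x []) 0))
        (tact ChainC332.P (pathsS.getD x []) 0)) = true := by
  decide +kernel

theorem c332_base : (ChainC332.base.all fun w => bigS.any fun v => wordEq w v) = true := by decide +kernel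

theorem root_comm (hg : Sp g) : g 0 * wprod g rootW = wprod g rootW * g 0 := by
  have h := FischerUnique.SubE7.word_one
    (w := [0] ++ [1, 2, 3, 6, 4, 3, 2, 1, 0, 1, 2, 3, 4, 6, 3, 2, 1] ++
      ([1, 2, 3, 6, 4, 3, 2, 1, 0, 1, 2, 3, 4, 6, 3, 2, 1] ++ [0]).reverse) (by decide +kernel)
  obtain ⟨ψ, hψ⟩ := FischerUnique.SubE7.setup.exists_hom (pick g [0, 1, 2, 3, 4, 5, 7]) (fun x => hg.sq _)
    (rels_of_relsIn (base := ChainE7.base) (emb := [0, 1, 2, 3, 4, 5, 7]) hg.sq (hg.big_one) (by decide +kernel))
  have e := congrArg ψ h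
  rw [map_one, map_wprod, wprod_congr fun x hx => hψ x ((show ∀ x ∈ [0] ++
    [1, 2, 3, 6, 4, 3, 2, 1, 0, 1, 2, 3, 4, 6, 3, 2, 1] ++
      ([1, 2, 3, 6, 4, 3, 2, 1, 0, 1, 2, 3, 4, 6, 3, 2, 1] ++ [0]).reverse, x < 7 by decide +kernel) x hx),
    wprod_pick, List.map_append, List.map_reverse, wprod_append, wprod_reverse hg.sq, mul_inv_eq_one,
    List.map_append, List.map_append, wprod_append, wprod_append] at e
  simp only [List.map_cons, List.map_nil] at e
  change wprod g [0] * wprod g rootW = wprod g rootW * wprod g [0] at e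
  simpa [wprod_cons, wprod_nil] using e

/-- The E7 element commutes with the first nine generators. -/
theorem e7_comm (hg : Sp g) {x : ℕ} (hx : x < 9) : Commute (wprod g e7W) (g x) := by
  set s : ℕ → G → G := fun x q => g x * q * g x with hs
  have hinv : ∀ x q, s x (s x q) = q := fun x q => by
    show g x * (g x * q * g x) * g x = q
    calc g x * (g x * q * g x) * g x = g x * g x * q * (g x * g x) := by group
      _ = q := by rw [hg.sq, one_mul, mul_one]
  have hact : ∀ (w : List ℕ) (q : G), act s w q = (wprod g w)⁻¹ * q * wprod g w := by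
    intro w
    induction w with
    | nil => intro q; simp [act_nil, wprod_nil]
    | cons y w ih =>
      intro q
      rw [act_cons, ih, wprod_cons, mul_inv_rev, inv_eq_of_mul_eq_one_right (hg.sq y)]
      show (wprod g w)⁻¹ * (g y * q * g y) * wprod g w = _
      group
  have hbase : ∀ w ∈ ChainC332.base, wprod g w = 1 := fun w hw => by
    obtain ⟨v, hv, he⟩ := List.any_eq_true.1 (List.all_eq_true.1 c332_base w hw)
    rw [eq_of_wordEq he]
    exact hg.big_one v hv
  obtain ⟨q, hq0, hq⟩ := checkCert_sound (P := ChainC332.P) (s := s) (q₀ := g 0)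
    (fun w hw q => by
      rw [hact, rotsOK_spec hg.sq hbase _ _ ChainC332.rots_ok w hw, inv_one, one_mul, mul_one])
    (fun w hw => by
      rw [hact]
      have hc : g 0 * wprod g w = wprod g w * g 0 := by
        have hr := root_comm hg
        change w ∈ ChainC332.subs at hw
        simp only [ChainC332.subs, List.mem_cons, List.not_mem_nil, or_false] at hw
        rcases hw with rfl | rfl | rfl | rfl | rfl | rfl | rfl | rfl | rfl
        all_goals first
          | exact hr
          | (simp only [wprod_cons, wprod_nil, mul_one]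
             done)
          | (rw [wprod_cons, wprod_nil, mul_one]
             exact (hg.comm (by norm_num) (by norm_num) (by decide) (by decide)).eq)
      rw [mul_assoc, hc, inv_mul_cancel_left])
    hinv ChainC332.cert_ok
  have hget : ∀ i < 3510 * 9, ChainC332.P.T.get i < 3510 := fun i hi => by
    have := tableOK_spec ChainC332.P ChainC332.tab_ok (n := 3510) (i := i) hi
    simp only [Bool.and_eq_true, Nat.blt_eq] at this
    exact this.1
  have hwalk : ∀ (w : List ℕ), (w.all fun y => Nat.blt y 9) = true → ∀ c < 3510,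
      tact ChainC332.P w c < 3510 ∧ act s w (q c) = q (tact ChainC332.P w c) := by
    intro w
    induction w with
    | nil => intro _ c hc; exact ⟨hc, rfl⟩
    | cons y w ih =>
      intro hall c hc
      rw [List.all_cons, Bool.and_eq_true, Nat.blt_eq] at hall
      have h1 : c * 9 + y < 3510 * 9 := by omega
      have h2 := hq (c * 9 + y) h1
      rw [show (c * 9 + y) % ChainC332.P.k = y from by show (c * 9 + y) % 9 = y; omega,
        show (c * 9 + y) / ChainC332.P.k = c from by show (c * 9 + y) / 9 = c; omega] at h2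
      rw [tact_cons, act_cons, h2]
      exact ih hall.2 _ (hget _ h1)
  have hf := List.all_eq_true.1 fixS_ok x (List.mem_range.2 hx)
  rw [Bool.and_eq_true, Nat.beq_eq] at hf
  obtain ⟨hlt, hp⟩ := hwalk _ hf.1 0 (by norm_num)
  obtain ⟨-, hS⟩ := hwalk e7W (by decide) _ hlt
  have br : ∀ a b, a < 11 → b < 11 → (a, b) ∈ edgesS → g a * (g b * g a * g b) * g a = g b :=
    fun a b ha hb h => by
      have hne : a ≠ b := fun e => by subst e; revert h; simp [edgesS] <;> omega
      rw [← hg.braid ha hb hne (Or.inl h)]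
      calc g a * (g a * g b * g a) * g a = g a * g a * g b * (g a * g a) := by group
        _ = g b := by rw [hg.sq, one_mul, mul_one]
  have s10 := br 0 1 (by norm_num) (by norm_num) (by decide)
  have s21 := br 1 2 (by norm_num) (by norm_num) (by decide)
  have s32 := br 2 3 (by norm_num) (by norm_num) (by decide)
  have s43 := br 3 4 (by norm_num) (by norm_num) (by decide)
  have s54 := br 4 5 (by norm_num) (by norm_num) (by decide)
  have s65 := br 5 6 (by norm_num) (by norm_num) (by decide)
  have s73 := br 3 7 (by norm_num) (by norm_num) (by decide)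
  have s87 := br 7 8 (by norm_num) (by norm_num) (by decide)
  have hpath : act s (pathsS.getD x []) (g 0) = g x := by
    interval_cases x <;>
      simp only [pathsS, List.getD_cons_zero, List.getD_cons_succ, act_cons, act_nil, hs, s10, s21, s32, s43,
        s54, s65, s73, s87]
  rw [hf.2, ← hp, hq0, hpath, hact] at hS
  show wprod g e7W * g x = g x * wprod g e7W
  calc wprod g e7W * g x = wprod g e7W * ((wprod g e7W)⁻¹ * g x * wprod g e7W) := by rw [hS]
    _ = g x * wprod g e7W := by group

/-- The E7 element commutes with all eleven generators. -/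
theorem e7_central (hg : Sp g) {x : ℕ} (hx : x < 11) : Commute (wprod g e7W) (g x) := by
  by_cases h9 : x < 9
  · exact e7_comm hg h9
  refine Commute.list_prod_left _ _ fun y hy => ?_
  obtain ⟨u, hu, rfl⟩ := List.mem_map.1 hy
  have hu' : u ∈ [0, 1, 2, 3, 4, 5, 7] := (show ∀ u ∈ e7W, u ∈ [0, 1, 2, 3, 4, 5, 7] by decide +kernel) u hu
  obtain ⟨h1, h2⟩ := (show ∀ u ∈ [0, 1, 2, 3, 4, 5, 7], ∀ t : Fin 11, 9 ≤ t.val →
    (u, t.val) ∉ edgesS ∧ (t.val, u) ∉ edgesS by decide +kernel) u hu' ⟨x, hx⟩ (by show 9 ≤ x; omega)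
  exact hg.comm (by simp at hu'; omega) hx h1 h2

theorem base_cases : (Fi23A.base.all fun w => wordEq w e7W || bigS.any fun v => wordEq w v) = true := by
  decide +kernel

theorem sgn_wprod (s : G →* ℤˣ) {w : List ℕ} (hw : ∀ x ∈ w, s (g x) = -1) :
    s (wprod g w) = (-1) ^ w.length := by
  induction w with
  | nil => rw [wprod_nil, map_one]; rfl
  | cons x w ih =>
    rw [wprod_cons, map_mul, hw x List.mem_cons_self, ih fun y hy => hw y (List.mem_cons_of_mem _ hy),
      List.length_cons, pow_succ']

/-- The last node is the E7 element on b, ..., h. -/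
theorem collapse (hg : Sp g) (s : G →* ℤˣ) (hs : ∀ x < 11, s (g x) = -1) :
    g 10 = wprod g Fi23.zW := by
  set C : Subgroup G := Subgroup.centralizer {wprod g e7W}
  have hmem : ∀ x, x < 11 → g x ∈ C := fun x hx =>
    Subgroup.mem_centralizer_singleton_iff.2 (e7_central hg hx).eq.symm
  let gC : ℕ → C := fun x => if h : x < 11 then ⟨g x, hmem x h⟩ else 1
  have gC_sq : ∀ x, gC x * gC x = 1 := fun x => by
    simp only [gC]
    split_ifs with h
    · exact Subtype.ext (hg.sq x)
    · exact one_mul _
  have coe : ∀ {w : List ℕ}, (∀ x ∈ w, x < 11) → ((wprod gC w : C) : G) = wprod g w := by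
    intro w
    induction w with
    | nil => intro _; rfl
    | cons x w ih =>
      intro hw
      rw [wprod_cons, Subgroup.coe_mul, ih fun y hy => hw y (List.mem_cons_of_mem _ hy), wprod_cons]
      simp only [gC, dif_pos (hw x List.mem_cons_self)]
  set eC : C := wprod gC e7W
  have he : (eC : G) = wprod g e7W := coe (by decide +kernel)
  have hc : ∀ t : C, eC * t = t * eC := fun t => Subtype.ext (by
    rw [Subgroup.coe_mul, Subgroup.coe_mul, he]
    exact (Subgroup.mem_centralizer_singleton_iff.1 t.2).symm)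
  have : (Subgroup.zpowers eC).Normal := ⟨fun n hn t => by
    obtain ⟨k, rfl⟩ := Subgroup.mem_zpowers_iff.1 hn
    rw [← ((show Commute eC t from hc t).zpow_left k).eq, mul_inv_cancel_right]
    exact hn⟩
  let π : C →* C ⧸ Subgroup.zpowers eC := QuotientGroup.mk' (Subgroup.zpowers eC)
  obtain ⟨ψ, hψ⟩ := Setup.exists_hom Fi23A.setup (fun x => π (gC x))
    (fun x => by rw [← map_mul, gC_sq, map_one]) (fun w hw => by
      rw [← map_wprod π gC]
      have h := List.all_eq_true.1 base_cases w hw
      rw [Bool.or_eq_true] at h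
      rcases h with h | h
      · rw [eq_of_wordEq h]
        exact (QuotientGroup.eq_one_iff _).2 (Subgroup.mem_zpowers eC)
      · obtain ⟨v, hv, he'⟩ := List.any_eq_true.1 h
        rw [eq_of_wordEq he']
        have : wprod gC v = 1 := Subtype.ext (by
          rw [coe ((show ∀ v ∈ bigS, ∀ x ∈ v, x < 11 by decide +kernel) v hv), hg.big_one v hv]; rfl)
        rw [this, map_one])
  have hz := eq_z ψ (v := π (gC 10)) (by rw [← map_mul, gC_sq, map_one])
    (fun x hx => by
      rw [hψ x (show x < Fi23A.setup.P.k by show x < 10; omega)]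
      refine (show Commute (gC 10) (gC x) from Subtype.ext ?_).map π
      simp only [gC, dif_pos (show (10 : ℕ) < 11 by norm_num), dif_pos (show x < 11 by omega), Subgroup.coe_mul]
      exact (hg.comm (by norm_num) (by omega) (by interval_cases x <;> decide) (by interval_cases x <;> decide)).eq)
    (by
      rw [hψ 9 (show 9 < Fi23A.setup.P.k by show 9 < 10; norm_num), ← map_mul, ← map_mul, ← map_mul, ← map_mul]
      refine congrArg π (Subtype.ext ?_)
      simp only [gC, dif_pos (show (10 : ℕ) < 11 by norm_num), dif_pos (show (9 : ℕ) < 11 by norm_num),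
        Subgroup.coe_mul]
      exact hg.braid (by norm_num) (by norm_num) (by norm_num) (by decide))
  rw [Fi23.z, map_wprod, wprod_congr fun x hx => hψ x ((show ∀ x ∈ Fi23.zW, x < 10 by decide +kernel) x hx),
    ← map_wprod π gC] at hz
  obtain ⟨n, hn⟩ := Subgroup.mem_zpowers_iff.1 (QuotientGroup.eq.1 hz.symm)
  have hG := congrArg Subtype.val hn
  rw [SubgroupClass.coe_zpow, he, Subgroup.coe_mul, Subgroup.coe_inv, coe (by decide +kernel)] at hG
  simp only [gC, dif_pos (show (10 : ℕ) < 11 by norm_num)] at hG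
  have hse : s (wprod g e7W) = -1 := by
    rw [sgn_wprod s fun x hx => hs x ((show ∀ x ∈ e7W, x < 11 by decide +kernel) x hx),
      show e7W.length = 63 from rfl]
    decide
  have hsz : s (wprod g Fi23.zW) = -1 := by
    rw [sgn_wprod s fun x hx => hs x ((show ∀ x ∈ Fi23.zW, x < 11 by decide +kernel) x hx),
      show Fi23.zW.length = 63 from rfl]
    decide
  have h1 := congrArg s hG
  rw [map_zpow, hse, map_mul, map_inv, hsz, hs 10 (by norm_num)] at h1
  rcases Int.even_or_odd n with ⟨m, rfl⟩ | hodd
  · rw [← two_mul, zpow_mul, zpow_two, e7_sq hg, one_zpow] at hG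
    exact (inv_mul_eq_one.1 hG.symm).symm
  · rw [Odd.neg_one_zpow hodd] at h1
    exact absurd h1 (by decide)

end

end Cfsg.Agent.Y555Spider
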