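import Cfsg.Agent.Lib.Fi23Ord3.Basic

/-!
An involution commuting with the centraliser of a transposition of Fi23 and braiding with one more
transposition is that transposition: conjugates of the quotient satisfy the relations of an affine plane of
order three.
-/

set_option autoImplicit false
set_option maxRecDepth 100000

namespace Cfsg.Agent.Y555Spider

open Cfsg.Agent.CosetCert
open Cfsg.Agent.CosetData
open Cfsg.Agent.FischerPresented
open Cfsg.Agent.Fi23Ord3

local notation "FS" => Fi23A.setup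

noncomputable section

/-- A word of a point. -/
def wA : List ℕ := [6, 5, 4, 3, 2, 1, 7, 3, 2, 8, 7, 3, 4, 5, 6]

/-- A word of a point. -/
def wB : List ℕ := [6, 5, 4, 3, 2, 1, 7, 3, 2, 4, 3, 7, 8, 7, 3, 2, 1, 4, 3, 2, 5, 6, 7, 3]

/-- A word of a point. -/
def wC : List ℕ := [6, 5, 4, 3, 2, 1, 0, 7, 3, 2, 1, 8, 7, 3, 2, 4, 3, 5, 4, 6, 5, 7, 3, 4, 8, 7, 3, 2, 1, 0, 9]

/-- A word of a point. -/
def wD : List ℕ := [6, 5, 4, 3, 2, 1, 7, 3, 2, 4, 3, 7, 8, 7, 3, 2, 1, 4, 3, 2, 5, 6, 7, 3, 9, 6, 5, 4, 3, 2, 1, 7, 3, 2, 4, 3, 5, 4, 6, 5, 7, 3, 2, 1, 4, 3, 2, 7, 3, 4, 5, 6]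

/-- The reversed word of the central involution of the subgroup on b, ..., h. -/
def zR : List ℕ := Fi23.zW.reverse

/-- Two words carry the base coset number to the same one. -/
def samePt (a b : List ℕ) : Bool := wok a && (wok b && Nat.beq (actF a 0) (actF b 0))

theorem plane_ok : samePt wA [] = true ∧ samePt wB [] = true ∧
    samePt wC [9] = true ∧ samePt ([9] ++ wC) ([9] ++ wA) = true ∧ samePt ([9] ++ zR ++ wC) ([9] ++ wB) = true ∧
    samePt wD ([9] ++ zR) = true ∧ samePt ([9] ++ wD) ([9] ++ zR ++ wB) = true ∧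
    samePt ([9] ++ zR ++ wD) ([9] ++ zR ++ wA) = true := by
  decide +kernel

theorem z_braid : Fi23.z * Setup.gen FS 9 * Fi23.z = Setup.gen FS 9 * Fi23.z * Setup.gen FS 9 := by
  have h := Fi23.word_one (w := Fi23.zW ++ [9] ++ Fi23.zW ++ ([9] ++ Fi23.zW ++ [9]).reverse) (by decide +kernel)
  rw [wprod_append, wprod_reverse (Setup.gen_invol FS), mul_inv_eq_one] at h
  simp only [wprod_append, wprod_cons, wprod_nil, mul_one] at h
  exact h

theorem el_z : el zR = Fi23.z := by
  rw [el, zR, List.reverse_reverse]; rfl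

theorem el_nine : el [9] = Setup.gen FS 9 := by
  rw [el, List.reverse_cons, List.reverse_nil, List.nil_append, wprod_cons, wprod_nil, mul_one]

/-- An involution commuting with the first nine generators and braiding with the tenth is the transposition. -/
theorem eq_z {Q : Type*} [Group Q] (ψ : GT →* Q) {v : Q} (hv : v * v = 1)
    (hc : ∀ x < 9, Commute v (ψ (Setup.gen FS x)))
    (hb : v * ψ (Setup.gen FS 9) * v = ψ (Setup.gen FS 9) * v * ψ (Setup.gen FS 9)) : v = ψ Fi23.z := by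
  have hcK : ∀ k ∈ Fi23.K, Commute v (ψ k) := by
    intro k hk
    unfold Fi23.K at hk
    induction hk using Subgroup.closure_induction with
    | mem g hg => obtain ⟨x, hx, rfl⟩ := hg; exact hc x hx
    | one => rw [map_one]; exact Commute.one_right _
    | mul a b _ _ ha hb => rw [map_mul]; exact ha.mul_right hb
    | inv a _ ha => rw [map_inv]; exact ha.inv_right
  have hvz : Commute v (ψ Fi23.z) := hcK _ Fi23.z_mem
  set z' := ψ Fi23.z with hz'
  set j := ψ (Setup.gen FS 9) with hj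
  have hz2 : z' * z' = 1 := by rw [hz', ← map_mul, Fi23.z_sq, map_one]
  have hj2 : j * j = 1 := by rw [hj, ← map_mul, Setup.gen_invol, map_one]
  have hzj : z' * j * z' = j * z' * j := by rw [hz', hj, ← map_mul, ← map_mul, z_braid, map_mul, map_mul]
  set u := v * z' with hu
  have hu2 : u * u = 1 := by rw [hu, hvz.symm.mul_mul_mul_comm, hv, hz2, one_mul]
  -- the conjugates
  let U : GT → Q := fun γ => ψ γ * u * (ψ γ)⁻¹
  have hUsq : ∀ γ, U γ * U γ = 1 := fun γ => by
    show ψ γ * u * (ψ γ)⁻¹ * (ψ γ * u * (ψ γ)⁻¹) = 1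
    calc ψ γ * u * (ψ γ)⁻¹ * (ψ γ * u * (ψ γ)⁻¹) = ψ γ * (u * u) * (ψ γ)⁻¹ := by group
      _ = 1 := by rw [hu2, mul_one, mul_inv_cancel]
  have hUone : U 1 = u := by show ψ 1 * u * (ψ 1)⁻¹ = u; rw [map_one, one_mul, inv_one, mul_one]
  have hUK : ∀ γ, ∀ k ∈ Fi23.K, U (γ * k) = U γ := fun γ k hk => by
    have h : Commute u (ψ k) := (hcK k hk).mul_left (by
      rw [hz', commute_iff_eq, ← map_mul, ← map_mul, Fi23.z_comm_K k hk])
    show ψ (γ * k) * u * (ψ (γ * k))⁻¹ = ψ γ * u * (ψ γ)⁻¹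
    calc ψ (γ * k) * u * (ψ (γ * k))⁻¹ = ψ γ * (ψ k * u) * ((ψ k)⁻¹ * (ψ γ)⁻¹) := by
          rw [map_mul, mul_inv_rev]; group
      _ = ψ γ * u * (ψ γ)⁻¹ := by rw [← h.eq]; group
  have hpt : ∀ a b : List ℕ, samePt a b = true → U (el a) = U (el b) := by
    intro a b h
    simp only [samePt, Bool.and_eq_true] at h
    obtain ⟨ha, hb, e⟩ := h
    have e0 : apt (el a) 0 = apt (el b) 0 := by
      rw [apt_el ha (by norm_num), apt_el hb (by norm_num)]; exact Nat.eq_of_beq_eq_true e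
    have hk : (el a)⁻¹ * el b ∈ Fi23.K := by
      rw [Out23.mem_H_iff]
      refine Fin.ext ?_
      have h1 : apt ((el a)⁻¹ * el b) 0 = 0 := by
        rw [apt_mul, ← e0, ← apt_mul, inv_mul_cancel, apt_one]
      rwa [apt_of_lt _ (by norm_num : 0 < 31671)] at h1
    rw [← hUK (el a) _ hk, mul_inv_cancel_left]
  -- one line
  have hbase : u * U (Setup.gen FS 9) = U (Fi23.z * Setup.gen FS 9) := by
    show u * (j * u * j⁻¹) = ψ (Fi23.z * Setup.gen FS 9) * u * (ψ (Fi23.z * Setup.gen FS 9))⁻¹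
    rw [map_mul, ← hz', ← hj, mul_inv_rev, inv_eq_of_mul_eq_one_right hj2, inv_eq_of_mul_eq_one_right hz2, hu]
    calc v * z' * (j * (v * z') * j) = v * z' * j * v * z' * j := by simp only [mul_assoc]
      _ = z' * v * j * v * z' * j := by rw [hvz.eq]
      _ = z' * (v * j * v) * z' * j := by simp only [mul_assoc]
      _ = z' * (j * v * j) * z' * j := by rw [hb]
      _ = z' * j * v * (j * z' * j) := by simp only [mul_assoc]
      _ = z' * j * v * (z' * j * z') := by rw [hzj]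
      _ = z' * j * (v * z') * (j * z') := by simp only [mul_assoc]
  have hline : ∀ w : List ℕ, U (el w) * U (el ([9] ++ w)) = U (el ([9] ++ zR ++ w)) ∧
      U (el w) * U (el ([9] ++ w)) = U (el ([9] ++ w)) * U (el w) := by
    intro w
    have conj : ∀ γ δ, U (γ * δ) = ψ γ * U δ * (ψ γ)⁻¹ := fun γ δ => by
      show ψ (γ * δ) * u * (ψ (γ * δ))⁻¹ = ψ γ * (ψ δ * u * (ψ δ)⁻¹) * (ψ γ)⁻¹
      rw [map_mul]; group
    have e3 : U (el w) * U (el ([9] ++ w)) = U (el ([9] ++ zR ++ w)) := by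
      rw [el_append, el_append ([9] ++ zR) w, el_append, el_z, el_nine, conj (el w) (Setup.gen FS 9), conj (el w),
        ← hbase]
      show ψ (el w) * u * (ψ (el w))⁻¹ * _ = _
      group
    refine ⟨e3, ?_⟩
    have i1 := inv_eq_of_mul_eq_one_right (hUsq (el w))
    have i2 := inv_eq_of_mul_eq_one_right (hUsq (el ([9] ++ w)))
    have i3 := inv_eq_of_mul_eq_one_right (hUsq (el ([9] ++ zR ++ w)))
    rw [← e3, mul_inv_rev, i1, i2] at i3
    exact i3.symm
  obtain ⟨o1, o2, o3, o4, o5, o6, o7, o8⟩ := plane_ok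
  set p := U (el []) with hp
  have hpu : p = u := by rw [hp, el_nil, hUone]
  set a10 := U (el ([9] ++ ([] : List ℕ))) with ha10
  set a20 := U (el ([9] ++ zR ++ ([] : List ℕ))) with ha20
  set a11 := U (el ([9] ++ wA)) with ha11
  set a22 := U (el ([9] ++ zR ++ wA)) with ha22
  set a12 := U (el ([9] ++ wB)) with ha12
  set a21 := U (el ([9] ++ zR ++ wB)) with ha21
  obtain ⟨l1, c1⟩ := hline []
  obtain ⟨l2, -⟩ := hline wA
  obtain ⟨l3, -⟩ := hline wB
  obtain ⟨l4, c4⟩ := hline wC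
  obtain ⟨l5, -⟩ := hline wD
  rw [← hp, ← ha10] at l1 c1
  rw [← ha20] at l1
  rw [hpt wA [] o1, ← hp, ← ha11, ← ha22] at l2
  rw [hpt wB [] o2, ← hp, ← ha12, ← ha21] at l3
  rw [hpt wC [9] o3, show U (el [9]) = a10 by rw [ha10, List.append_nil], hpt _ _ o4, ← ha11] at l4 c4
  rw [hpt _ _ o5, ← ha12] at l4
  rw [hpt wD ([9] ++ zR) o6, show U (el ([9] ++ zR)) = a20 by rw [ha20, List.append_nil], hpt _ _ o7,
    ← ha21, hpt _ _ o8, ← ha22] at l5
  have p2 : p * p = 1 := hUsq _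
  have a2 : a10 * a10 = 1 := hUsq _
  have key : p * a11 = a11 := by
    calc p * a11 = a22 := l2
      _ = a20 * a21 := l5.symm
      _ = p * a10 * (p * a12) := by rw [← l1, ← l3]
      _ = a10 * p * (p * a12) := by rw [c1]
      _ = a10 * (p * p) * a12 := by simp only [mul_assoc]
      _ = a10 * (a10 * a11) := by rw [p2, mul_one, l4]
      _ = a11 := by rw [← mul_assoc, a2, one_mul]
  have hu1 : u = 1 := by rw [← hpu]; exact mul_eq_right.1 key
  rw [hu] at hu1
  calc v = v * (z' * z') := by rw [hz2, mul_one]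
    _ = z' := by rw [← mul_assoc, hu1, one_mul]

end

end Cfsg.Agent.Y555Spider
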